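import Groth.Agent.GrpField.AffImageHopf
import Groth.Agent.GrpField.SchDomFlat
import Groth.Agent.GrpField.SchImgSurj

/-!
# A schematically dominant homomorphism to an affine group over a field is faithfully flat
-/

universe u

open CategoryTheory CategoryTheory.Limits MonoidalCategory CartesianMonoidalCategory MonObj GrpObj AlgebraicGeometry

namespace Groth.Agent.HullDed

/-- Flatness can be tested on a cofinal family of maps into the source. -/
theorem flat_of_maps {A M : Type u} [CommRing A] [CommRing M] (φ : A →+* M)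
    (h : ∀ s : Finset A, ∃ (R : Type u) (_ : CommRing R) (g₀ : R →+* A), (φ.comp g₀).Flat ∧ ∀ a ∈ s, ∃ r, g₀ r = a) :
    φ.Flat := by
  classical
  letI := φ.toAlgebra
  change Module.Flat A M
  refine Module.Flat.iff_forall_isTrivialRelation.2 fun {l b x} hb => ?_
  obtain ⟨R, _, g₀, hg₀, hy⟩ := h (Finset.univ.image b)
  choose y hy using fun i => hy (b i) (Finset.mem_image_of_mem b (Finset.mem_univ i))
  letI := (φ.comp g₀).toAlgebra
  haveI : Module.Flat R M := hg₀
  have hb' : ∑ i, y i • x i = 0 := by
    refine (Finset.sum_congr rfl fun i _ => ?_).trans hb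
    show φ (g₀ (y i)) * x i = φ (b i) * x i
    rw [hy i]
  obtain ⟨k, a, z, hx, ha⟩ := Module.Flat.isTrivialRelation_of_sum_smul_eq_zero (R := R) (M := M) hb'
  refine ⟨k, fun i j => g₀ (a i j), z, fun i => hx i, fun j => ?_⟩
  have h1 := congrArg g₀ (ha j)
  rw [map_sum, map_zero] at h1
  refine Eq.trans (Finset.sum_congr rfl fun i _ => ?_) h1
  rw [map_mul, hy i]

/-- No finiteness is needed. -/
theorem flat_surjective_of_schDom {k : Type u} [Field k] {G K : Over (Spec (CommRingCat.of k))}
    [GrpObj G] [GrpObj K] [IsAffine K.left] (g : G ⟶ K) [IsMonHom g] [QuasiCompact g.left]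
    (hker : g.left.ker = ⊥) : Flat g.left ∧ Surjective g.left := by
  classical
  obtain ⟨A, hA, e, he⟩ := Groth.Agent.FinHopf.exists_hopf (R := CommRingCat.of k) K
  haveI : IsIso e.inv.left := inferInstanceAs (IsIso ((Over.forget _).map e.inv))
  haveI : IsMonHom e.inv := inferInstance
  let t : Γ(K.left, ⊤) → A := fun a => (Scheme.ΓSpecIso A).hom (e.hom.left.appTop a)
  have key : ∀ s : Finset Γ(K.left, ⊤), ∃ (D : Over (Spec (CommRingCat.of k))) (w : K ⟶ D),
      IsAffine D.left ∧ Flat (g ≫ w).left ∧ ∀ a ∈ s, ∃ b, w.left.appTop b = a := by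
    intro s
    obtain ⟨B, hsB, hfg, hB⟩ := Groth.Agent.HopfRange.exists_fg_isSubHopf (k := k) (A := A) (s.image t)
    obtain ⟨D, hD, v₀, hv₀, hlft, haff, hvker, hrange⟩ :=
      Groth.Agent.GrpField.AffImage.exists_spec_sub B hB hfg
    refine ⟨D, e.inv ≫ v₀, haff, ?_, ?_⟩
    · haveI : IsAffineHom D.hom := isAffineHom_of_isAffine D.hom
      haveI : IsAffineHom K.hom := isAffineHom_of_isAffine K.hom
      haveI : QuasiCompact (g ≫ e.inv ≫ v₀).left := by
        haveI : QuasiCompact ((g ≫ e.inv ≫ v₀).left ≫ D.hom) := by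
          rw [Over.w, ← Over.w g]; infer_instance
        exact QuasiCompact.of_comp (g ≫ e.inv ≫ v₀).left D.hom
      refine Groth.Agent.GrpField.flat_of_schDom (g ≫ e.inv ≫ v₀) ?_
      have h1 : ((g.left ≫ e.inv.left) ≫ v₀.left).ker = ⊥ := by
        rw [Scheme.Hom.ker_comp, Scheme.Hom.ker_comp, hker,
          Scheme.IdealSheafData.map_bot, e.inv.left.ker_eq_bot, Scheme.IdealSheafData.map_bot, hvker]
      simpa using h1
    · intro a ha
      obtain ⟨b, hb⟩ := hrange (t a) (hsB (Finset.mem_image_of_mem t ha))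
      refine ⟨b, ?_⟩
      simp only [Over.comp_left, Groth.Agent.GrpField.AffImage.appTop_comp_apply']
      rw [hb]
      simp only [t, Iso.hom_inv_id_apply]
      rw [← Groth.Agent.GrpField.AffImage.appTop_comp_apply', ← Over.comp_left, e.inv_hom_id]
      rfl
  haveI : Flat g.left := by
    rw [HasRingHomProperty.iff_of_source_openCover (P := @Flat) G.left.affineCover]
    intro j
    refine flat_of_maps _ fun s => ?_
    obtain ⟨D, w, haff, hflat, hrange⟩ := key s
    refine ⟨Γ(D.left, ⊤), inferInstance, w.left.appTop.hom, ?_, hrange⟩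
    haveI := haff
    haveI : Flat (g.left ≫ w.left) := by rw [← Over.comp_left]; exact hflat
    have h2 := HasRingHomProperty.appTop (P := @Flat) (G.left.affineCover.f j ≫ g.left ≫ w.left) inferInstance
    rw [← Category.assoc, Scheme.Hom.comp_appTop, CommRingCat.hom_comp] at h2
    exact h2
  have : IsSchemeTheoreticallyDominant g.left := (isSchemeTheoreticallyDominant_iff _).2 hker
  have : IsDominant g.left := inferInstance
  exact ⟨inferInstance, Groth.Agent.GrpField.SchImg.surjective_of_isDominant g⟩

end Groth.Agent.HullDed
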