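import Groth.Agent.HullDed.Main
import Mathlib.AlgebraicGeometry.Morphisms.FlatMono

/-!
# A separated flat group over a Dedekind domain with affine generic fibre is affine
-/

universe u

open CategoryTheory CategoryTheory.Limits MonoidalCategory CartesianMonoidalCategory MonObj GrpObj AlgebraicGeometry

namespace Groth.Agent.HullDed

variable {R : CommRingCat.{u}} [IsDedekindDomain R] {X : Scheme.{u}} (f : X ⟶ Spec R) [Flat f]
  [QuasiCompact f] [QuasiSeparated f]

/-- the hull map is an isomorphism over a flat affine base with affine preimage -/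
theorem isIso_of_flat {K : Scheme.{u}} [IsAffine K] (b : K ⟶ Spec R) (hb : b.appTop.hom.Flat)
    {P Q : Scheme.{u}} [IsAffine P] [IsAffine Q] {p₁ : P ⟶ X} {p₂ : P ⟶ K} (HP : IsPullback p₁ p₂ f b)
    {q₁ : Q ⟶ Spec Γ(X, ⊤)} {q₂ : Q ⟶ K} (HQ : IsPullback q₁ q₂ (Spec.map (str f)) b)
    (m : P ⟶ Q) (h₁ : m ≫ q₁ = p₁ ≫ X.toSpecΓ) (h₂ : m ≫ q₂ = p₂) : IsIso m := by
  have : CompactSpace X := QuasiCompact.compactSpace_of_compactSpace f
  have : QuasiSeparatedSpace X := quasiSeparatedSpace_of_quasiSeparated f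
  have : Flat (Spec.map (str f)) := (HasRingHomProperty.Spec_iff (P := @Flat)).2 (flat_str f)
  have : IsIso X.toSpecΓ.appTop := by rw [Scheme.toSpecΓ_appTop]; infer_instance
  have EP := isPushout_appTop hb HP
  have EQ := isPushout_appTop hb HQ
  let ψ := EP.desc (inv X.toSpecΓ.appTop ≫ q₁.appTop) q₂.appTop (by
    rw [← EQ.w, ← Category.assoc]
    congr 1
    rw [IsIso.comp_inv_eq, ← Scheme.Hom.comp_appTop, toSpecΓ_str])
  have : IsIso m.appTop := by
    refine ⟨ψ, EQ.hom_ext ?_ ?_, EP.hom_ext ?_ ?_⟩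
    · rw [← Scheme.Hom.comp_appTop_assoc, h₁, Scheme.Hom.comp_appTop, Category.assoc, EP.inl_desc,
        IsIso.hom_inv_id_assoc, Category.comp_id]
    · rw [← Scheme.Hom.comp_appTop_assoc, h₂, EP.inr_desc, Category.comp_id]
    · rw [EP.inl_desc_assoc, Category.assoc, ← Scheme.Hom.comp_appTop, h₁, Scheme.Hom.comp_appTop,
        IsIso.inv_hom_id_assoc, Category.comp_id]
    · rw [EP.inr_desc_assoc, ← Scheme.Hom.comp_appTop, h₂, Category.comp_id]
  have e : m = P.isoSpec.hom ≫ Spec.map m.appTop ≫ Q.isoSpec.inv := by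
    rw [← Category.assoc, Iso.eq_comp_inv, Scheme.isoSpec_hom_naturality]
  rw [e]
  infer_instance

/-- a group with affine generic fibre, flat and separated, is affine -/
theorem isAffine_of_generic (G : Over (Spec R)) [GrpObj G] [Flat G.hom] [QuasiCompact G.hom]
    [IsSeparated G.hom] {K : Scheme.{u}} [IsAffine K] (b : K ⟶ Spec R) (hb : b.appTop.hom.Flat)
    [IsSchemeTheoreticallyDominant b] (hgen : IsAffine (pullback G.hom b)) : IsAffine G.left := by
  let f := G.hom
  let ρ := G.left.toSpecΓ
  let g := Spec.map (str f)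
  have hg : ρ ≫ g = f := toSpecΓ_str f
  haveI : Flat ρ := flat_toSpecΓ G
  haveI : Surjective ρ := surjective_toSpecΓ G
  haveI : QuasiCompact ρ := quasiCompact_toSpecΓ G
  haveI : IsSeparated ρ := by
    have : IsSeparated (ρ ≫ g) := by rw [hg]; infer_instance
    exact IsSeparated.of_comp ρ g
  haveI : IsAffineHom b := isAffineHom_of_isAffine b
  let m := pullback.map f b g b ρ (𝟙 _) (𝟙 _) ((Category.comp_id f).trans hg.symm) (by simp)
  have hm₁ : m ≫ pullback.fst g b = pullback.fst f b ≫ ρ := pullback.lift_fst _ _ _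
  have hm₂ : m ≫ pullback.snd g b = pullback.snd f b :=
    (pullback.lift_snd _ _ _).trans (Category.comp_id _)
  haveI : IsIso m := isIso_of_flat f b hb (IsPullback.of_hasPullback f b)
    (IsPullback.of_hasPullback g b) m hm₁ hm₂
  let h := pullback.fst ρ ρ ≫ f
  let q := pullback.fst h b
  have hx : (q ≫ pullback.fst ρ ρ) ≫ f = pullback.snd h b ≫ b := by
    rw [Category.assoc]; exact pullback.condition
  have hy : (q ≫ pullback.snd ρ ρ) ≫ f = pullback.snd h b ≫ b := by
    rw [← hg, Category.assoc, ← pullback.condition_assoc, hg, ← Category.assoc]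
    exact hx
  have hxy : pullback.lift _ _ hx = pullback.lift _ _ hy := by
    rw [← cancel_mono m]
    apply pullback.hom_ext
    · rw [Category.assoc, Category.assoc, hm₁, pullback.lift_fst_assoc, pullback.lift_fst_assoc,
        Category.assoc, Category.assoc, pullback.condition]
    · rw [Category.assoc, Category.assoc, hm₂, pullback.lift_snd, pullback.lift_snd]
  have hxy' : q ≫ pullback.fst ρ ρ = q ≫ pullback.snd ρ ρ := by
    have := congrArg (· ≫ pullback.fst f b) hxy
    exact (pullback.lift_fst _ _ hx).symm.trans (this.trans (pullback.lift_fst _ _ hy))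
  have hq : (q ≫ pullback.fst ρ ρ) ≫ pullback.diagonal ρ = q := by
    apply pullback.hom_ext
    · simp
    · simpa using hxy'
  haveI : Flat h := inferInstanceAs (Flat (pullback.fst ρ ρ ≫ f))
  haveI : IsSchemeTheoreticallyDominant q := inferInstanceAs (IsSchemeTheoreticallyDominant (pullback.fst h b))
  haveI : IsIso (pullback.diagonal ρ) := by
    rw [IsClosedImmersion.isIso_iff_ker_eq_bot, eq_bot_iff, ← q.ker_eq_bot]
    conv_rhs => rw [← hq]
    exact Scheme.Hom.le_ker_comp _ _
  haveI : Mono ρ := (pullback.isIso_diagonal_iff ρ).1 inferInstance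
  haveI : IsIso ρ := Flat.isIso_of_surjective_of_mono ρ
  exact .of_isIso ρ

end Groth.Agent.HullDed
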