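import Mathlib.AlgebraicGeometry.Morphisms.Flat
import Mathlib.AlgebraicGeometry.Morphisms.SchemeTheoreticallyDominant
import Mathlib.RingTheory.Flat.TorsionFree
import Mathlib.RingTheory.Filtration
import Mathlib.RingTheory.DedekindDomain.Ideal.Lemmas

/-!
# Global functions of a flat scheme over a Dedekind domain
-/

universe u

open CategoryTheory CategoryTheory.Limits AlgebraicGeometry Opposite TopologicalSpace

namespace Groth.Agent.HullDed

variable {R : CommRingCat.{u}} {X : Scheme.{u}}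

/-- The ring map to global functions of a scheme over `Spec R`. -/
noncomputable def str (f : X ⟶ Spec R) : R ⟶ Γ(X, ⊤) :=
  (Scheme.ΓSpecIso R).inv ≫ f.appTop

theorem toSpecΓ_str (f : X ⟶ Spec R) : X.toSpecΓ ≫ Spec.map (str f) = f := by
  rw [str, Spec.map_comp, ← Scheme.toSpecΓ_naturality_assoc, ← SpecMap_ΓSpecIso_hom,
    ← Spec.map_comp]
  simp

theorem str_comp {Y : Scheme.{u}} (j : Y ⟶ X) (f : X ⟶ Spec R) :
    str (j ≫ f) = str f ≫ j.appTop := by
  rw [str, str, Scheme.Hom.comp_appTop, Category.assoc]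

theorem ext_of_toSpecΓ [CompactSpace X] [QuasiSeparatedSpace X] {C : Scheme.{u}} [IsAffine C]
    {g g' : Spec Γ(X, ⊤) ⟶ C} (h : X.toSpecΓ ≫ g = X.toSpecΓ ≫ g') : g = g' := by
  have : IsIso X.toSpecΓ.appTop := by rw [Scheme.toSpecΓ_appTop]; infer_instance
  apply ext_of_isAffine
  rw [← cancel_mono X.toSpecΓ.appTop, ← Scheme.Hom.comp_appTop, ← Scheme.Hom.comp_appTop, h]

/-- restriction of a scalar to an open set -/
noncomputable def strOpen (f : X ⟶ Spec R) (W : X.Opens) : R ⟶ Γ(X, W) :=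
  str f ≫ X.presheaf.map (homOfLE le_top).op

theorem strOpen_map (f : X ⟶ Spec R) {W W' : X.Opens} (h : W' ≤ W) :
    strOpen f W ≫ X.presheaf.map (homOfLE h).op = strOpen f W' := by
  rw [strOpen, strOpen, Category.assoc, ← Functor.map_comp]; rfl

theorem fromSpec_comp (f : X ⟶ Spec R) {U : X.Opens} (hU : IsAffineOpen U) :
    hU.fromSpec ≫ f = Spec.map (strOpen f U) := by
  conv_lhs => rw [← toSpecΓ_str f, ← Category.assoc]
  rw [hU.fromSpec_toSpecΓ, ← Spec.map_comp]
  rfl

theorem flat_strOpen (f : X ⟶ Spec R) [Flat f] {U : X.Opens} (hU : IsAffineOpen U) :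
    (strOpen f U).hom.Flat := by
  have : IsOpenImmersion hU.fromSpec := inferInstance
  have h : Flat (Spec.map (strOpen f U)) := by rw [← fromSpec_comp f hU]; infer_instance
  exact (HasRingHomProperty.Spec_iff (P := @Flat)).1 h

variable [IsDomain R]

/-- nonzero scalars are regular on the functions of a flat scheme -/
theorem eq_zero_of_mul (f : X ⟶ Spec R) [Flat f] (W : X.Opens) {r : R} (hr : r ≠ 0) (g : Γ(X, W))
    (h : strOpen f W r * g = 0) : g = 0 := by
  apply X.sheaf.eq_of_locally_eq' (fun U : {U : X.affineOpens // (U : X.Opens) ≤ W} => (U.1 : X.Opens)) W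
    (fun U => homOfLE U.2)
  · intro x hx
    obtain ⟨_, ⟨V, hV, rfl⟩, hxV, hVW⟩ := X.isBasis_affineOpens.exists_subset_of_mem_open hx W.2
    exact Opens.mem_iSup.2 ⟨⟨⟨V, hV⟩, hVW⟩, hxV⟩
  intro U
  show X.presheaf.map (homOfLE U.2).op g = X.presheaf.map (homOfLE U.2).op 0
  rw [map_zero]
  letI := (strOpen f (U.1 : X.Opens)).hom.toAlgebra
  haveI : Module.Flat R Γ(X, (U.1 : X.Opens)) := flat_strOpen f U.1.2
  have h1 := congrArg (X.presheaf.map (homOfLE U.2).op) h
  rw [map_mul, map_zero, ← CommRingCat.comp_apply, strOpen_map f U.2] at h1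
  have h2 : r • (X.presheaf.map (homOfLE U.2).op g) = (0 : Γ(X, (U.1 : X.Opens))) := by
    rw [Algebra.smul_def]; exact h1
  exact (smul_eq_zero.1 h2).resolve_left hr

variable [IsDedekindDomain R]

/-- the functions of a flat scheme over a Dedekind domain are flat -/
theorem flat_str (f : X ⟶ Spec R) [Flat f] : (str f).hom.Flat := by
  letI := (str f).hom.toAlgebra
  have : Module.IsTorsionFree R Γ(X, ⊤) := by
    refine Module.IsTorsionFree.of_smul_eq_zero fun r g h => ?_
    by_cases hr : r = 0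
    · exact Or.inl hr
    refine Or.inr (eq_zero_of_mul f ⊤ hr g ?_)
    rw [Algebra.smul_def] at h
    rw [show strOpen f ⊤ = str f by
      rw [strOpen, show (homOfLE le_top : (⊤ : X.Opens) ⟶ ⊤) = 𝟙 _ from rfl, op_id,
        X.presheaf.map_id, Category.comp_id]]
    exact h
  exact IsDedekindDomain.flat_iff_torsion_eq_bot.2 (Submodule.isTorsionFree_iff_torsion_eq_bot.1 this)

/-- a uniformizer at a maximal ideal, spread out -/
theorem exists_uniformizer {A : Type u} [CommRing A] [IsDedekindDomain A] (p : Ideal A) [p.IsMaximal]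
    (hp : p ≠ ⊥) : ∃ π c : A, π ∈ p ∧ π ≠ 0 ∧ c ∉ p ∧ ∀ y ∈ p, π ∣ c * y := by
  obtain ⟨π, h1, h2⟩ := Ideal.exists_mem_pow_notMem_pow_succ p hp Ideal.IsPrime.ne_top' 1
  rw [pow_one] at h1
  obtain ⟨I, hI⟩ := Ideal.dvd_iff_le.2 ((Ideal.span_singleton_le_iff_mem p).2 h1)
  have hI' : ¬ I ≤ p := fun h => h2 (by
    rw [pow_succ, pow_one]
    exact Ideal.mul_mono_right h (hI ▸ Ideal.mem_span_singleton_self π))
  obtain ⟨c, hc, hcp⟩ := SetLike.not_le_iff_exists.1 hI'
  refine ⟨π, c, h1, fun h => h2 (h ▸ zero_mem _), hcp, fun y hy => ?_⟩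
  rw [← Ideal.mem_span_singleton, hI, mul_comm c y]
  exact Ideal.mul_mem_mul hy hc

end Groth.Agent.HullDed
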