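import Groth.Agent.HullDed.Grp
import Mathlib.AlgebraicGeometry.Morphisms.ClosedImmersion
import Mathlib.AlgebraicGeometry.ResidueField
import Mathlib.RingTheory.TensorProduct.Basic

/-!
# Schematic dominance on the fibres of the affine hull over a Dedekind domain
-/

universe u

open CategoryTheory CategoryTheory.Limits AlgebraicGeometry TensorProduct Opposite TopologicalSpace

namespace Groth.Agent.HullDed

variable {R : CommRingCat.{u}} [IsDomain R]

/-- a morphism to an affine scheme that is injective on functions is schematically dominant -/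
theorem ker_eq_bot_of_injective {P Q : Scheme.{u}} [IsAffine Q] (m : P ⟶ Q) [QuasiCompact m]
    (h : Function.Injective m.appTop) : m.ker = ⊥ := by
  apply Scheme.IdealSheafData.ext_of_isAffine
  simp [m.ker_apply ⟨⊤, isAffineOpen_top Q⟩]
  exact (RingHom.injective_iff_ker_eq_bot _).1 h

variable [IsDedekindDomain R] {X : Scheme.{u}} (f : X ⟶ Spec R) [Flat f] [QuasiCompact f] [QuasiSeparated f]

/-- the case of a flat base change -/
theorem injective_of_flat {K : Scheme.{u}} [IsAffine K] (b : K ⟶ Spec R) (hb : b.appTop.hom.Flat)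
    {P Q : Scheme.{u}} {p₁ : P ⟶ X} {p₂ : P ⟶ K} (HP : IsPullback p₁ p₂ f b)
    {q₁ : Q ⟶ Spec Γ(X, ⊤)} {q₂ : Q ⟶ K} (HQ : IsPullback q₁ q₂ (Spec.map (str f)) b)
    (m : P ⟶ Q) (h₁ : m ≫ q₁ = p₁ ≫ X.toSpecΓ) (h₂ : m ≫ q₂ = p₂) :
    Function.Injective m.appTop := by
  have : CompactSpace X := QuasiCompact.compactSpace_of_compactSpace f
  have : QuasiSeparatedSpace X := quasiSeparatedSpace_of_quasiSeparated f
  have : Flat (Spec.map (str f)) := (HasRingHomProperty.Spec_iff (P := @Flat)).2 (flat_str f)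
  have : IsIso X.toSpecΓ.appTop := by rw [Scheme.toSpecΓ_appTop]; infer_instance
  have EP := isPushout_appTop hb HP
  have EQ := isPushout_appTop hb HQ
  let ψ := EP.desc (inv X.toSpecΓ.appTop ≫ q₁.appTop) q₂.appTop (by
    rw [← EQ.w, ← Category.assoc]
    congr 1
    rw [IsIso.comp_inv_eq, ← Scheme.Hom.comp_appTop, toSpecΓ_str])
  have hs : m.appTop ≫ ψ = 𝟙 _ := by
    apply EQ.hom_ext
    · rw [← Scheme.Hom.comp_appTop_assoc, h₁, Scheme.Hom.comp_appTop, Category.assoc, EP.inl_desc,
        IsIso.hom_inv_id_assoc, Category.comp_id]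
    · rw [← Scheme.Hom.comp_appTop_assoc, h₂, EP.inr_desc, Category.comp_id]
  intro a b hab
  have := congrArg ψ hab
  rwa [← CommRingCat.comp_apply, ← CommRingCat.comp_apply, hs] at this

/-- the case of a closed point: a function killed on the fibre is, up to a unit at `p`, divisible by `π` -/
theorem exists_div {k : CommRingCat.{u}} (φ : R ⟶ k) (hφ : Function.Surjective φ)
    {P : Scheme.{u}} {p₁ : P ⟶ X} {p₂ : P ⟶ Spec k} (HP : IsPullback p₁ p₂ f (Spec.map φ))
    (a : Γ(X, ⊤)) (ha : p₁.appTop a = 0) (π c : R) (hπ : π ≠ 0)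
    (hc : ∀ y, φ y = 0 → π ∣ c * y) :
    ∃ g : Γ(X, ⊤), str f c * a = str f π * g := by
  have loc : ∀ U : X.affineOpens, ∃ g : Γ(X, (U : X.Opens)),
      strOpen f U c * X.presheaf.map (homOfLE le_top).op a = strOpen f U π * g := by
    intro U
    letI := (strOpen f (U : X.Opens)).hom.toAlgebra
    letI := φ.hom.toAlgebra
    let M : CommRingCat := Γ(X, (U : X.Opens))
    let T : CommRingCat := CommRingCat.of (M ⊗[R] k)
    let inl : M ⟶ T := CommRingCat.ofHom Algebra.TensorProduct.includeLeftRingHom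
    let inr : k ⟶ T := CommRingCat.ofHom Algebra.TensorProduct.includeRight.toRingHom
    have PO := CommRingCat.isPushout_tensorProduct R M k
    let w : Spec T ⟶ P := HP.lift (Spec.map inl ≫ U.2.fromSpec) (Spec.map inr) (by
      rw [Category.assoc, fromSpec_comp, ← Spec.map_comp, ← Spec.map_comp]
      exact congrArg Spec.map PO.w)
    have h1 : inl (X.presheaf.map (homOfLE le_top).op a) = 0 := by
      have h3 : U.2.fromSpec.appTop ≫ (Scheme.ΓSpecIso M).hom = X.presheaf.map (homOfLE le_top).op := by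
        have := congr($(U.2.fromSpec_toSpecΓ).appTop)
        rw [Scheme.Hom.comp_appTop, Scheme.toSpecΓ_appTop] at this
        rw [← cancel_epi (Scheme.ΓSpecIso Γ(X, ⊤)).hom, reassoc_of% this, Scheme.ΓSpecIso_naturality]
      have h4 : p₁.appTop ≫ w.appTop ≫ (Scheme.ΓSpecIso T).hom =
          X.presheaf.map (homOfLE le_top).op ≫ inl := by
        rw [← Scheme.Hom.comp_appTop_assoc, HP.lift_fst, Scheme.Hom.comp_appTop, Category.assoc,
          Scheme.ΓSpecIso_naturality, reassoc_of% h3]
      rw [← CommRingCat.comp_apply, ← h4, CommRingCat.comp_apply, ha, map_zero]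
    let I : Ideal M := (RingHom.ker φ.hom).map (algebraMap R M)
    let g₀ : { g : R →+* M ⧸ I // RingHom.ker φ.hom ≤ RingHom.ker g } :=
      ⟨(Ideal.Quotient.mk I).comp (algebraMap R M), fun y hy => by
        rw [RingHom.mem_ker, RingHom.comp_apply]
        exact Ideal.Quotient.eq_zero_iff_mem.2 (Ideal.mem_map_of_mem _ hy)⟩
    let ψ : k →+* M ⧸ I := φ.hom.liftOfSurjective hφ g₀
    let d := PO.desc (CommRingCat.ofHom (Ideal.Quotient.mk I)) (CommRingCat.ofHom ψ) (by
      ext y
      exact (RingHom.liftOfSurjective_comp_apply (f := φ.hom) hφ g₀ y).symm)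
    have h2 : Ideal.Quotient.mk I (X.presheaf.map (homOfLE le_top).op a) = 0 := by
      have := congrArg d h1
      rw [map_zero, ← CommRingCat.comp_apply] at this
      erw [PO.inl_desc] at this
      exact this
    rw [Ideal.Quotient.eq_zero_iff_mem] at h2
    have h5 : algebraMap R M c * X.presheaf.map (homOfLE le_top).op a ∈
        (Ideal.span {π}).map (algebraMap R M) := by
      refine Ideal.map_mono ?_ ((Ideal.map_mul (algebraMap R M) (Ideal.span {c}) (RingHom.ker φ.hom)).ge
        (Ideal.mul_mem_mul (Ideal.mem_map_of_mem _ (Ideal.mem_span_singleton_self c)) h2))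
      rw [Ideal.span_singleton_mul_le_iff]
      exact fun y hy => Ideal.mem_span_singleton.2 (hc y hy)
    rw [Ideal.map_span, Set.image_singleton, Ideal.mem_span_singleton] at h5
    exact h5
  choose g hg using loc
  have hcov : (⊤ : X.Opens) ≤ ⨆ U : X.affineOpens, (U : X.Opens) := by
    rw [iSup_affineOpens_eq_top X]
  obtain ⟨G, hG, -⟩ := X.sheaf.existsUnique_gluing' (fun U : X.affineOpens => (U : X.Opens)) ⊤
    (fun U => homOfLE le_top) hcov g (fun U V => by
      show X.presheaf.map (homOfLE inf_le_left).op (g U) = X.presheaf.map (homOfLE inf_le_right).op (g V)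
      rw [← sub_eq_zero]
      refine eq_zero_of_mul f _ hπ _ ?_
      have hU := congrArg (X.presheaf.map (homOfLE (inf_le_left : (U : X.Opens) ⊓ V ≤ U)).op) (hg U)
      have hV := congrArg (X.presheaf.map (homOfLE (inf_le_right : (U : X.Opens) ⊓ V ≤ V)).op) (hg V)
      simp only [map_mul, ← CommRingCat.comp_apply, ← Functor.map_comp, strOpen_map] at hU hV
      rw [mul_sub, sub_eq_zero, ← hU, ← hV]
      rfl)
  refine ⟨G, ?_⟩
  apply X.sheaf.eq_of_locally_eq' (fun U : X.affineOpens => (U : X.Opens)) ⊤ (fun U => homOfLE le_top) hcov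
  intro U
  show X.presheaf.map (homOfLE le_top).op _ = X.presheaf.map (homOfLE le_top).op _
  rw [map_mul, map_mul]
  exact (hg U).trans (congrArg (_ * ·) (hG U).symm)

/-- the case of a closed point -/
theorem injective_of_surjective {k : CommRingCat.{u}} (φ : R ⟶ k) (hφ : Function.Surjective φ)
    [(RingHom.ker φ.hom).IsMaximal] (hne : RingHom.ker φ.hom ≠ ⊥)
    {P Q : Scheme.{u}} {p₁ : P ⟶ X} {p₂ : P ⟶ Spec k} (HP : IsPullback p₁ p₂ f (Spec.map φ))
    {q₁ : Q ⟶ Spec Γ(X, ⊤)} {q₂ : Q ⟶ Spec k} (HQ : IsPullback q₁ q₂ (Spec.map (str f)) (Spec.map φ))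
    (m : P ⟶ Q) (h₁ : m ≫ q₁ = p₁ ≫ X.toSpecΓ) :
    Function.Injective m.appTop := by
  have : CompactSpace X := QuasiCompact.compactSpace_of_compactSpace f
  have : QuasiSeparatedSpace X := quasiSeparatedSpace_of_quasiSeparated f
  have : IsIso X.toSpecΓ.appTop := by rw [Scheme.toSpecΓ_appTop]; infer_instance
  have : IsClosedImmersion (Spec.map φ) := IsClosedImmersion.spec_of_surjective φ hφ
  have : IsClosedImmersion q₁ := MorphismProperty.of_isPullback HQ.flip this
  have hsurj : Function.Surjective q₁.appTop := (IsClosedImmersion.isAffine_surjective_of_isAffine (f := q₁)).2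
  rw [injective_iff_map_eq_zero]
  intro z hz
  obtain ⟨z', rfl⟩ := hsurj z
  let a := X.toSpecΓ.appTop z'
  have ha : p₁.appTop a = 0 := by
    have := congr($(h₁).appTop z')
    simp only [Scheme.Hom.comp_appTop, CommRingCat.comp_apply] at this
    rw [← this]; exact hz
  obtain ⟨π, c, hπp, hπ, hc, hdvd⟩ := exists_uniformizer (RingHom.ker φ.hom) hne
  obtain ⟨g, hg⟩ := exists_div f φ hφ HP a ha π c hπ (fun y hy => hdvd y hy)
  obtain ⟨d, hd⟩ := hφ (1 : k)
  let θ : Γ(X, ⊤) ⟶ Γ(Q, ⊤) := inv X.toSpecΓ.appTop ≫ q₁.appTop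
  have hθ : str f ≫ θ = φ ≫ (Scheme.ΓSpecIso k).inv ≫ q₂.appTop := by
    have := congr($(HQ.w).appTop)
    simp only [Scheme.Hom.comp_appTop] at this
    simp only [θ, str, Category.assoc]
    have h6 : f.appTop ≫ inv X.toSpecΓ.appTop = (Spec.map (str f)).appTop := by
      rw [IsIso.comp_inv_eq, ← Scheme.Hom.comp_appTop, toSpecΓ_str]
    rw [reassoc_of% h6, this, ← Scheme.ΓSpecIso_inv_naturality_assoc]
  have hθ0 : ∀ y : R, φ y = 0 → θ (str f y) = 0 := fun y hy => by
    rw [← CommRingCat.comp_apply, hθ, CommRingCat.comp_apply, hy, map_zero]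
  have hcz : θ (str f c) * q₁.appTop z' = 0 := by
    have e : θ a = q₁.appTop z' := by
      show (X.toSpecΓ.appTop ≫ inv X.toSpecΓ.appTop ≫ q₁.appTop) z' = _
      rw [IsIso.hom_inv_id_assoc]
    rw [← e, ← map_mul, hg, map_mul, hθ0 π hπp, zero_mul]
  obtain ⟨e, i, hi, hei⟩ := Ideal.IsMaximal.exists_inv ‹(RingHom.ker φ.hom).IsMaximal› hc
  have := congrArg (fun y => θ (str f y) * q₁.appTop z') hei
  simp only [map_add, map_mul, map_one, hθ0 i hi, add_zero, one_mul] at this
  rw [← this, _root_.mul_assoc, hcz, mul_zero]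

/-- **Schematic dominance on every fibre.** -/
theorem ker_pullback_map_eq_bot (s : Spec R)
    (h : (Spec R).fromSpecResidueField s ≫ 𝟙 _ = 𝟙 _ ≫ (Spec R).fromSpecResidueField s := by simp) :
    (pullback.map f ((Spec R).fromSpecResidueField s) (Spec.map (str f)) ((Spec R).fromSpecResidueField s)
      X.toSpecΓ (𝟙 _) (𝟙 _) ((Category.comp_id f).trans (toSpecΓ_str f).symm) h).ker = ⊥ := by
  set b := (Spec R).fromSpecResidueField s
  set m := pullback.map f b (Spec.map (str f)) b X.toSpecΓ (𝟙 _) (𝟙 _) _ h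
  have hm₁ : m ≫ pullback.fst _ _ = pullback.fst f b ≫ X.toSpecΓ := pullback.lift_fst _ _ _
  have hm₂ : m ≫ pullback.snd _ _ = pullback.snd f b :=
    (pullback.lift_snd _ _ _).trans (Category.comp_id _)
  have : IsAffine (pullback (Spec.map (str f)) b) := inferInstance
  have : QuasiCompact m := by
    have : QuasiCompact (m ≫ pullback.snd (Spec.map (str f)) b) := by rw [hm₂]; infer_instance
    exact QuasiCompact.of_comp m (pullback.snd (Spec.map (str f)) b)
  apply ker_eq_bot_of_injective
  let φ : R ⟶ (Spec R).residueField s :=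
    CommRingCat.ofHom (algebraMap R s.asIdeal.ResidueField) ≫ (Scheme.Spec.residueFieldIso R s).inv
  have hb : b = Spec.map φ := by
    rw [Spec.map_comp]; exact (Scheme.Spec.map_residueFieldIso_inv_eq_fromSpecResidueField R s).symm
  by_cases hs : s.asIdeal = ⊥
  · have hflat : φ.hom.Flat := by
      rw [CommRingCat.hom_comp]
      refine RingHom.Flat.comp ?_ (RingHom.Flat.of_bijective (ConcreteCategory.bijective_of_isIso _))
      rw [IsScalarTower.algebraMap_eq R (R ⧸ s.asIdeal) s.asIdeal.ResidueField]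
      refine RingHom.Flat.comp (RingHom.Flat.of_bijective ⟨?_, Ideal.Quotient.mk_surjective⟩) ?_
      · rw [RingHom.injective_iff_ker_eq_bot]
        exact (Ideal.Quotient.mkₐ_ker R s.asIdeal).trans hs
      · rw [RingHom.flat_algebraMap_iff]
        exact IsLocalization.flat _ (nonZeroDivisors (R ⧸ s.asIdeal))
    have hb' : b.appTop.hom.Flat := by
      rw [hb]
      have := (HasRingHomProperty.Spec_iff (P := @Flat)).2 hflat
      simpa [Scheme.Hom.appLE, Scheme.Hom.appTop] using!
        (Spec.map φ).flat_appLE (isAffineOpen_top _) (isAffineOpen_top _) le_top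
    exact injective_of_flat f b hb' (IsPullback.of_hasPullback f b) (IsPullback.of_hasPullback _ b) m hm₁ hm₂
  · have hmax : s.asIdeal.IsMaximal := s.2.isMaximal hs
    have hsurj : Function.Surjective φ := by
      exact (ConcreteCategory.bijective_of_isIso (Scheme.Spec.residueFieldIso R s).inv).2.comp
        s.asIdeal.algebraMap_residueField_surjective
    have hker : RingHom.ker φ.hom = s.asIdeal := by
      ext y
      show (Scheme.Spec.residueFieldIso R s).inv (algebraMap R s.asIdeal.ResidueField y) = 0 ↔ _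
      rw [map_eq_zero_iff _ (ConcreteCategory.bijective_of_isIso (Scheme.Spec.residueFieldIso R s).inv).1]
      exact Ideal.algebraMap_residueField_eq_zero
    have : (RingHom.ker φ.hom).IsMaximal := hker ▸ hmax
    refine injective_of_surjective f φ hsurj (hker ▸ hs) (p₁ := pullback.fst f b) (p₂ := pullback.snd f b)
      ?_ (q₁ := pullback.fst _ b) (q₂ := pullback.snd _ b) ?_ m hm₁
    · convert IsPullback.of_hasPullback f b using 1; exact hb.symm
    · convert IsPullback.of_hasPullback (Spec.map (str f)) b using 1; exact hb.symm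

end Groth.Agent.HullDed
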