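import Groth.Agent.HullDed.Affine
import Groth.Agent.DescentFT.Basic
import Groth.Agent.Hensel.HenselizationNoeth
import Mathlib.AlgebraicGeometry.Morphisms.Etale
import Mathlib.AlgebraicGeometry.Morphisms.FormallyUnramified

/-!
# Finiteness of the affine hull over a Dedekind domain and its kernel
-/

universe u

open CategoryTheory CategoryTheory.Limits MonoidalCategory CartesianMonoidalCategory MonObj GrpObj AlgebraicGeometry

namespace Groth.Agent.HullDed

/-- a separated flat morphism with injective generic part is a monomorphism -/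
theorem mono_of_generic {S X K : Scheme.{u}} (n : X ⟶ S) [Flat n] [IsSeparated n] (b : K ⟶ S)
    [IsSchemeTheoreticallyDominant b] [QuasiCompact b]
    (H : ∀ (T : Scheme.{u}) (x y : T ⟶ X) (t : T ⟶ K), x ≫ n = t ≫ b → y ≫ n = t ≫ b → x = y) :
    Mono n := by
  let h := pullback.fst n n ≫ n
  let q := pullback.fst h b
  have hx : (q ≫ pullback.fst n n) ≫ n = pullback.snd h b ≫ b := by
    rw [Category.assoc]; exact pullback.condition
  have hy : (q ≫ pullback.snd n n) ≫ n = pullback.snd h b ≫ b := by
    rw [Category.assoc, ← pullback.condition]; exact pullback.condition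
  have hxy := H _ _ _ _ hx hy
  have hq : (q ≫ pullback.fst n n) ≫ pullback.diagonal n = q := by
    apply pullback.hom_ext
    · simp
    · simpa using hxy
  haveI : Flat h := inferInstanceAs (Flat (pullback.fst n n ≫ n))
  haveI : IsSchemeTheoreticallyDominant q := inferInstanceAs (IsSchemeTheoreticallyDominant (pullback.fst h b))
  haveI : IsIso (pullback.diagonal n) := by
    rw [IsClosedImmersion.isIso_iff_ker_eq_bot, eq_bot_iff, ← q.ker_eq_bot]
    conv_rhs => rw [← hq]
    exact Scheme.Hom.le_ker_comp _ _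
  exact (pullback.isIso_diagonal_iff n).1 inferInstance

/-- a flat scheme of finite presentation with injective generic part is étale -/
theorem etale_of_generic {R : CommRingCat.{u}} {X K : Scheme.{u}} (n : X ⟶ Spec R) [Flat n]
    [LocallyOfFinitePresentation n] (b : K ⟶ Spec R) [IsSchemeTheoreticallyDominant b] [QuasiCompact b]
    (H : ∀ (T : Scheme.{u}) (x y : T ⟶ X) (t : T ⟶ K), x ≫ n = t ≫ b → y ≫ n = t ≫ b → x = y) :
    Etale n := by
  refine IsZariskiLocalAtSource.of_openCover (P := @Etale) X.affineCover fun i => ?_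
  haveI := X.affineCover.map_prop i
  haveI : IsAffineHom (X.affineCover.f i ≫ n) := isAffineHom_of_isAffine _
  haveI : Mono (X.affineCover.f i ≫ n) := mono_of_generic _ b fun T x y t hx hy =>
    (cancel_mono (X.affineCover.f i)).1 (H T _ _ t (by simpa using hx) (by simpa using hy))
  haveI : IsIso (pullback.diagonal (X.affineCover.f i ≫ n)) := (pullback.isIso_diagonal_iff _).2 inferInstance
  haveI : FormallyUnramified (X.affineCover.f i ≫ n) := inferInstance
  exact Etale.of_formallyUnramified_of_flat _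

/-- finite type descends to an affine target along a faithfully flat quasi-compact map -/
theorem locallyOfFiniteType_of_fflat {R A : CommRingCat.{u}} [IsNoetherianRing R] {X : Scheme.{u}}
    [CompactSpace X] (ρ : X ⟶ Spec A) [Flat ρ] [Surjective ρ] (σ : R ⟶ A)
    [LocallyOfFiniteType (ρ ≫ Spec.map σ)] :
    IsNoetherianRing A ∧ LocallyOfFiniteType (Spec.map σ) := by
  let 𝒰 := X.affineCover.finiteSubcover
  let Z := ∐ fun i => 𝒰.X i
  let π : Z ⟶ X := Sigma.desc 𝒰.f
  have hsurj : Function.Surjective π := fun x => by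
    refine ⟨Sigma.ι (fun i => 𝒰.X i) (𝒰.idx x) (𝒰.covers x).choose, ?_⟩
    rw [← Scheme.Hom.comp_apply, Sigma.ι_desc]
    exact (𝒰.covers x).choose_spec
  haveI : Surjective π := ⟨hsurj⟩
  haveI : IsAffine Z := inferInstance
  haveI : Etale π := IsZariskiLocalAtSource.sigmaDesc fun i =>
    haveI := 𝒰.map_prop i
    inferInstance
  let φ : A ⟶ Γ(Z, ⊤) := Spec.preimage (Z.isoSpec.inv ≫ π ≫ ρ)
  have hφ : Spec.map φ = Z.isoSpec.inv ≫ π ≫ ρ := Spec.map_preimage _
  have hflat : φ.hom.Flat := by
    have : Flat (Spec.map φ) := by rw [hφ]; infer_instance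
    exact (HasRingHomProperty.Spec_iff (P := @Flat)).1 this
  have hs : Surjective (Spec.map φ) := by rw [hφ]; infer_instance
  letI := φ.hom.toAlgebra
  letI := σ.hom.toAlgebra
  letI : Algebra R Γ(Z, ⊤) := (σ ≫ φ).hom.toAlgebra
  haveI : IsScalarTower R A Γ(Z, ⊤) := IsScalarTower.of_algebraMap_eq fun _ => rfl
  haveI : Algebra.FiniteType R Γ(Z, ⊤) := by
    have : LocallyOfFiniteType (Spec.map (σ ≫ φ)) := by
      rw [Spec.map_comp, hφ, Category.assoc, Category.assoc]; infer_instance
    exact (HasRingHomProperty.Spec_iff (P := @LocallyOfFiniteType)).1 this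
  haveI : Module.FaithfullyFlat A Γ(Z, ⊤) :=
    RingHom.faithfullyFlat_algebraMap_iff.1 (RingHom.FaithfullyFlat.iff_flat_and_comap_surjective.2
      ⟨hflat, hs.surj⟩)
  haveI : IsNoetherianRing Γ(Z, ⊤) := Algebra.FiniteType.isNoetherianRing R _
  have hA : IsNoetherianRing A := Hensel.isNoetherianRing_of_faithfullyFlat (S := Γ(Z, ⊤))
  haveI : Algebra.FiniteType A Γ(Z, ⊤) := Algebra.FiniteType.of_restrictScalars_finiteType R A _
  haveI : Algebra.FinitePresentation A Γ(Z, ⊤) := Algebra.FinitePresentation.of_finiteType.1 inferInstance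
  haveI : Algebra.FiniteType R A := DescentFT.finiteType_of_faithfullyFlat (B := Γ(Z, ⊤))
  exact ⟨hA, (HasRingHomProperty.Spec_iff (P := @LocallyOfFiniteType)).2 ‹Algebra.FiniteType R A›⟩

variable {R : CommRingCat.{u}} [IsDedekindDomain R]
  (G : Over (Spec R)) [GrpObj G] [Flat G.hom] [QuasiCompact G.hom] [QuasiSeparated G.hom]
  [LocallyOfFiniteType G.hom]

theorem finiteness_hull : LocallyOfFinitePresentation G.left.toSpecΓ ∧
    LocallyOfFiniteType (Spec.map (str G.hom)) := by
  haveI : CompactSpace G.left := QuasiCompact.compactSpace_of_compactSpace G.hom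
  haveI := flat_toSpecΓ G
  haveI := surjective_toSpecΓ G
  have h : LocallyOfFiniteType (G.left.toSpecΓ ≫ Spec.map (str G.hom)) := by
    rw [toSpecΓ_str]; infer_instance
  obtain ⟨hA, hft⟩ := locallyOfFiniteType_of_fflat G.left.toSpecΓ (str G.hom)
  haveI : LocallyOfFiniteType G.left.toSpecΓ := locallyOfFiniteType_of_comp _ (Spec.map (str G.hom))
  exact ⟨inferInstance, hft⟩

/-- the kernel of the hull map is étale when the generic fibre is affine -/
theorem etale_kernel {K : Scheme.{u}} [IsAffine K] (b : K ⟶ Spec R) (hb : b.appTop.hom.Flat)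
    [IsSchemeTheoreticallyDominant b] (hgen : IsAffine (pullback G.hom b)) :
    Etale (pullback.snd G.left.toSpecΓ (η[G].left ≫ G.left.toSpecΓ) ≫ (𝟙_ (Over (Spec R))).hom) := by
  let f := G.hom
  let ρ := G.left.toSpecΓ
  let g := Spec.map (str f)
  have hg : ρ ≫ g = f := toSpecΓ_str f
  haveI : IsAffineHom b := isAffineHom_of_isAffine b
  haveI : Flat ρ := flat_toSpecΓ G
  haveI : LocallyOfFinitePresentation ρ := (finiteness_hull G).1
  let m := pullback.map f b g b ρ (𝟙 _) (𝟙 _) ((Category.comp_id f).trans hg.symm) (by simp)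
  have hm₁ : m ≫ pullback.fst g b = pullback.fst f b ≫ ρ := pullback.lift_fst _ _ _
  have hm₂ : m ≫ pullback.snd g b = pullback.snd f b :=
    (pullback.lift_snd _ _ _).trans (Category.comp_id _)
  haveI : IsIso m := isIso_of_flat f b hb (IsPullback.of_hasPullback f b)
    (IsPullback.of_hasPullback g b) m hm₁ hm₂
  let k := pullback.fst ρ (η[G].left ≫ ρ)
  let l := pullback.snd ρ (η[G].left ≫ ρ)
  haveI : Flat (l ≫ (𝟙_ (Over (Spec R))).hom) := inferInstanceAs (Flat (l ≫ 𝟙 _))
  haveI : LocallyOfFinitePresentation (l ≫ (𝟙_ (Over (Spec R))).hom) :=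
    inferInstanceAs (LocallyOfFinitePresentation (l ≫ 𝟙 _))
  refine etale_of_generic _ b fun T x y t hx hy => ?_
  have hl : x ≫ l = y ≫ l := by
    have e : (𝟙_ (Over (Spec R))).hom = 𝟙 _ := rfl
    simpa [e] using hx.trans hy.symm
  have hk : ∀ z : T ⟶ pullback ρ (η[G].left ≫ ρ), z ≫ (l ≫ (𝟙_ (Over (Spec R))).hom) = t ≫ b →
      (z ≫ k) ≫ f = t ≫ b := by
    intro z hz
    rw [← hz, ← hg, Category.assoc, pullback.condition_assoc, Category.assoc, hg, Over.w η[G]]
  have hxy : pullback.lift _ _ (hk x hx) = pullback.lift _ _ (hk y hy) := by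
    rw [← cancel_mono m]
    apply pullback.hom_ext
    · rw [Category.assoc, Category.assoc, hm₁, pullback.lift_fst_assoc, pullback.lift_fst_assoc,
        Category.assoc, Category.assoc, pullback.condition, reassoc_of% hl]
    · rw [Category.assoc, Category.assoc, hm₂, pullback.lift_snd, pullback.lift_snd]
  refine pullback.hom_ext ?_ hl
  exact (pullback.lift_fst _ _ (hk x hx)).symm.trans
    ((congrArg (· ≫ pullback.fst f b) hxy).trans (pullback.lift_fst _ _ (hk y hy)))

end Groth.Agent.HullDed
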