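import Mathlib.RingTheory.Flat.EquationalCriterion
import Mathlib.RingTheory.Flat.TorsionFree
import Mathlib.LinearAlgebra.TensorProduct.Quotient
import Groth.Agent.HullDed.Basic

/-!
# Fibrewise criterion of flatness over a Dedekind domain, without finiteness
-/

universe u

open TensorProduct

namespace Groth.Agent.HullDed

variable {R A M : Type u} [CommRing R] [CommRing A] [AddCommGroup M] [Algebra R A] [Module R M]
  [Module A M] [IsScalarTower R A M]

/-- the vectors `(wᵢ m)ᵢ` for the relations `w` of `b` -/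
def relSpan {l : ℕ} (b : Fin l → A) (M : Type u) [AddCommGroup M] [Module A M] :
    Submodule A (Fin l → M) :=
  Submodule.span A {v | ∃ (w : Fin l → A) (m : M), ∑ i, b i * w i = 0 ∧ v = fun i => w i • m}

theorem mem_relSpan {l : ℕ} {b : Fin l → A} {n : ℕ} (a : Fin l → Fin n → A) (z : Fin n → M)
    (h : ∀ j, ∑ i, b i * a i j = 0) : (fun i => ∑ j, a i j • z j) ∈ relSpan b M := by
  rw [show (fun i => ∑ j, a i j • z j) = ∑ j, (fun i => a i j • z j) by ext; simp]
  exact Submodule.sum_mem _ fun j _ => Submodule.subset_span ⟨_, _, h j, rfl⟩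

theorem isTrivialRelation_of_mem {l : ℕ} {b : Fin l → A} {v : Fin l → M} (h : v ∈ relSpan b M) :
    Module.IsTrivialRelation b v := by
  obtain ⟨n, t, g, hv⟩ := Submodule.mem_span_set'.1 h
  choose w m hw hg using fun j => (g j).2
  refine ⟨n, fun i j => t j * w j i, m, fun i => ?_, fun j => ?_⟩
  · rw [← hv, Finset.sum_apply]
    refine Finset.sum_congr rfl fun j _ => ?_
    rw [Pi.smul_apply, hg, ← mul_smul]
  · rw [show ∑ i, b i * (t j * w j i) = t j * ∑ i, b i * w j i by
      rw [Finset.mul_sum]; exact Finset.sum_congr rfl fun i _ => by ring]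
    rw [hw, mul_zero]

variable [IsDomain R] [Module.IsTorsionFree R A] [Module.IsTorsionFree R M]

theorem cancel_smul {N : Type*} [AddCommGroup N] [Module R N] [Module.IsTorsionFree R N] {r : R}
    (hr : r ≠ 0) {x y : N} (h : r • x = r • y) : x = y := by
  rw [← sub_eq_zero, ← smul_sub] at h
  exact sub_eq_zero.1 ((smul_eq_zero.1 h).resolve_left hr)

/-- descent of relations at a maximal ideal -/
theorem descend {p : Ideal R} {π c : R} (hπ : π ≠ 0) (hπp : π ∈ p) (hc : ∀ y ∈ p, π ∣ c * y)
    (hfl : Module.Flat (A ⧸ p.map (algebraMap R A)) ((A ⧸ p.map (algebraMap R A)) ⊗[A] M))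
    {l : ℕ} {b : Fin l → A} {y : Fin l → M} (h : π • y ∈ relSpan b M) :
    c • y ∈ relSpan b M := by
  classical
  obtain ⟨n, a, z, hy, ha⟩ := isTrivialRelation_of_mem h
  let I := p.map (algebraMap R A)
  let B := A ⧸ I
  let N := B ⊗[A] M
  let mk := Ideal.Quotient.mk I
  have hmap : ∀ e ∈ I, ∃ e', c • e = π • e' := by
    intro e he
    have h5 : algebraMap R A c * e ∈ (Ideal.span {π}).map (algebraMap R A) := by
      refine Ideal.map_mono ?_ ((Ideal.map_mul (algebraMap R A) (Ideal.span {c}) p).ge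
        (Ideal.mul_mem_mul (Ideal.mem_map_of_mem _ (Ideal.mem_span_singleton_self c)) he))
      rw [Ideal.span_singleton_mul_le_iff]
      exact fun y hy => Ideal.mem_span_singleton.2 (hc y hy)
    rw [Ideal.map_span, Set.image_singleton, Ideal.mem_span_singleton] at h5
    obtain ⟨e', he'⟩ := h5
    exact ⟨e', by rw [Algebra.smul_def, Algebra.smul_def, he']⟩
  have hker : ∀ m : M, (1 : B) ⊗ₜ[A] m = 0 → ∃ m', c • m = π • m' := by
    intro m hm
    have := congrArg (TensorProduct.quotTensorEquivQuotSMul M I) hm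
    rw [show (1 : B) = mk 1 from (map_one mk).symm, TensorProduct.quotTensorEquivQuotSMul_mk_tmul,
      one_smul, map_zero, Submodule.Quotient.mk_eq_zero] at this
    refine Submodule.smul_induction_on this (fun e he m _ => ?_) (fun m₁ m₂ h₁ h₂ => ?_)
    · obtain ⟨e', he'⟩ := hmap e he
      exact ⟨e' • m, by rw [← smul_assoc, he', smul_assoc]⟩
    · obtain ⟨m₁', h₁⟩ := h₁
      obtain ⟨m₂', h₂⟩ := h₂
      exact ⟨m₁' + m₂', by rw [smul_add, smul_add, h₁, h₂]⟩
  have hsm : ∀ (t : A) (m : M), mk t • (1 : B) ⊗ₜ[A] m = (1 : B) ⊗ₜ[A] (t • m) := by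
    intro t m
    rw [TensorProduct.smul_tmul', smul_eq_mul, _root_.mul_one, ← TensorProduct.smul_tmul]
    congr 1
    show Ideal.Quotient.mk I t = t • (1 : B)
    rw [Algebra.smul_def, _root_.mul_one]; rfl
  let x : (Fin n → B) →ₗ[B] N := Fintype.linearCombination B fun j => (1 : B) ⊗ₜ[A] z j
  let f : (Fin l → B) →ₗ[B] (Fin n → B) := Fintype.linearCombination B fun i j => mk (a i j)
  have hxf : x ∘ₗ f = 0 := by
    apply LinearMap.pi_ext'
    intro i
    ext
    show x (f (Pi.single i 1)) = 0
    rw [Fintype.linearCombination_apply_single, one_smul, Fintype.linearCombination_apply]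
    simp only [hsm]
    rw [← TensorProduct.tmul_sum, ← hy i, Pi.smul_apply, ← algebraMap_smul A π (y i), ← hsm,
      Ideal.Quotient.eq_zero_iff_mem.2 (Ideal.mem_map_of_mem _ hπp), zero_smul]
  obtain ⟨k, a', y', hxy, haf⟩ := Module.Flat.exists_factorization_of_comp_eq_zero_of_free hxf
  choose cc hcc using fun j k => Ideal.Quotient.mk_surjective (a' (Pi.single j 1) k)
  have hsurj : ∀ v : N, ∃ m : M, (1 : B) ⊗ₜ[A] m = v := by
    intro v
    induction v using TensorProduct.induction_on with
    | zero => exact ⟨0, TensorProduct.tmul_zero _ _⟩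
    | tmul b m =>
      obtain ⟨t, rfl⟩ := Ideal.Quotient.mk_surjective b
      refine ⟨t • m, ?_⟩
      rw [← hsm, TensorProduct.smul_tmul', smul_eq_mul, _root_.mul_one]
    | add v₁ v₂ h₁ h₂ =>
      obtain ⟨m₁, h₁⟩ := h₁
      obtain ⟨m₂, h₂⟩ := h₂
      exact ⟨m₁ + m₂, by rw [TensorProduct.tmul_add, h₁, h₂]⟩
  choose w hw using fun k => hsurj (y' (Finsupp.single k 1))
  have hz : ∀ j, (1 : B) ⊗ₜ[A] (z j - ∑ k, cc j k • w k) = 0 := by
    intro j
    rw [TensorProduct.tmul_sub, TensorProduct.tmul_sum, sub_eq_zero]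
    simp only [← hsm, hw, mk, hcc]
    have e : x (Pi.single j 1) = y' (a' (Pi.single j 1)) := congr($hxy (Pi.single j 1))
    rw [Fintype.linearCombination_apply_single, one_smul] at e
    rw [e]
    conv_lhs => rw [← Finsupp.univ_sum_single (a' (Pi.single j 1))]
    rw [map_sum]
    refine Finset.sum_congr rfl fun k _ => ?_
    rw [← map_smul, Finsupp.smul_single', _root_.mul_one]
  choose z' hz' using fun j => hker _ (hz j)
  have he : ∀ i k, ∑ j, a i j * cc j k ∈ I := by
    intro i k
    rw [← Ideal.Quotient.eq_zero_iff_mem, map_sum]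
    have e : a' (f (Pi.single i 1)) = 0 := congr($haf (Pi.single i 1))
    rw [Fintype.linearCombination_apply_single, one_smul] at e
    have e2 := congr($e k)
    rw [← Finset.univ_sum_single (fun j => mk (a i j)), map_sum, Finsupp.coe_finset_sum,
      Finset.sum_apply, Finsupp.coe_zero, Pi.zero_apply] at e2
    refine Eq.trans (Finset.sum_congr rfl fun j _ => ?_) e2
    rw [map_mul, show Pi.single j (mk (a i j)) = mk (a i j) • (Pi.single j 1 : Fin n → B) by
      rw [← Pi.single_smul, smul_eq_mul, _root_.mul_one], map_smul, Finsupp.smul_apply, smul_eq_mul, hcc]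
  choose e' he' using fun i k => hmap _ (he i k)
  have key : c • y = (fun i => ∑ k, e' i k • w k) + fun i => ∑ j, a i j • z' j := by
    funext i
    apply cancel_smul hπ
    rw [Pi.add_apply, smul_add, Finset.smul_sum, Finset.smul_sum, Pi.smul_apply, smul_comm π c (y i),
      show π • y i = ∑ j, a i j • z j from hy i, Finset.smul_sum]
    have e1 : ∀ j, c • (a i j • z j) = ∑ k, (c • (a i j * cc j k)) • w k + π • (a i j • z' j) := by
      intro j
      rw [← smul_comm (a i j) π (z' j), ← hz', smul_sub, smul_sub, ← smul_comm c (a i j) (z j),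
        Finset.smul_sum, Finset.smul_sum]
      rw [eq_comm, add_comm, sub_add_eq_add_sub, sub_eq_iff_eq_add]
      congr 1
      refine Finset.sum_congr rfl fun k _ => ?_
      rw [smul_assoc, mul_smul, smul_comm]
    rw [Finset.sum_congr rfl fun j _ => e1 j, Finset.sum_add_distrib, Finset.sum_comm]
    congr 1
    refine Finset.sum_congr rfl fun k _ => ?_
    rw [← Finset.sum_smul, ← Finset.smul_sum, he', smul_assoc]
  rw [key]
  refine Submodule.add_mem _ (mem_relSpan e' w fun k => ?_) (mem_relSpan a z' ha)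
  apply cancel_smul hπ
  rw [smul_zero, Finset.smul_sum]
  calc ∑ i, π • (b i * e' i k) = ∑ i, c • (b i * ∑ j, a i j * cc j k) :=
        Finset.sum_congr rfl fun i _ => by rw [← mul_smul_comm, ← mul_smul_comm, he']
    _ = c • ∑ j, (∑ i, b i * a i j) * cc j k := by
        rw [← Finset.smul_sum]
        congr 1
        simp only [Finset.mul_sum, Finset.sum_mul, _root_.mul_assoc]
        exact Finset.sum_comm
    _ = 0 := by simp [ha]

variable [IsDedekindDomain R]

/-- **Fibrewise criterion.** `N` is the generic fibre of `M`, the closed fibres are flat. -/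
theorem flat_of_fibres {N : Type u} [AddCommGroup N] [Module R N] [Module A N] [IsScalarTower R A N]
    [Module.Flat A N] (ι : M →ₗ[A] N) (hι : Function.Injective ι)
    (hden : ∀ v : N, ∃ r : R, r ≠ 0 ∧ ∃ m, r • v = ι m)
    (hfl : ∀ p : Ideal R, p.IsMaximal → p ≠ ⊥ →
      Module.Flat (A ⧸ p.map (algebraMap R A)) ((A ⧸ p.map (algebraMap R A)) ⊗[A] M)) :
    Module.Flat A M := by
  classical
  refine Module.Flat.iff_forall_isTrivialRelation.2 fun {l b x} hb => ?_
  let J : Ideal R :=
    ((relSpan b M).restrictScalars R).comap (LinearMap.toSpanSingleton R (Fin l → M) x)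
  have hJ : ∀ r, r ∈ J ↔ r • x ∈ relSpan b M := fun r => Iff.rfl
  -- the generic fibre
  have hgen : J ≠ ⊥ := by
    have hb' : ∑ i, b i • ι (x i) = 0 := by
      simpa [map_sum] using congrArg ι hb
    obtain ⟨k, a, y, hx, ha⟩ := Module.Flat.isTrivialRelation_of_sum_smul_eq_zero hb'
    simp only at hx
    choose r hr m hm using fun j => hden (y j)
    have : (∏ j, r j) ∈ J := by
      rw [hJ]
      have hm' : ∀ j, ∃ m', (∏ j, r j) • y j = ι m' := fun j => by
        refine ⟨(∏ j' ∈ Finset.univ.erase j, r j') • m j, ?_⟩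
        rw [← Finset.prod_erase_mul _ _ (Finset.mem_univ j), mul_smul, hm]
        exact (ι.map_smul_of_tower _ _).symm
      choose m' hm' using hm'
      convert mem_relSpan a m' ha
      apply hι
      rw [Pi.smul_apply, ι.map_smul_of_tower, hx, Finset.smul_sum, map_sum]
      refine Finset.sum_congr rfl fun j _ => ?_
      rw [map_smul, smul_comm, hm']
    intro h
    rw [h, Ideal.mem_bot] at this
    exact Finset.prod_ne_zero_iff.2 (fun j _ => hr j) this
  by_cases htop : J = ⊤
  · have h1 : (1 : R) • x ∈ relSpan b M := (hJ 1).1 (htop ▸ trivial)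
    rw [one_smul] at h1
    exact isTrivialRelation_of_mem h1
  exfalso
  obtain ⟨p, hp, hJp⟩ := Ideal.exists_le_maximal J htop
  have hp0 : p ≠ ⊥ := fun h => hgen (le_bot_iff.1 (h ▸ hJp))
  obtain ⟨π, c, hπp, hπ, hc, hdvd⟩ := exists_uniformizer p hp0
  have hJn : ∀ n, J ≤ p ^ (n + 1) := by
    intro n
    induction n with
    | zero => simpa using hJp
    | succ n ih =>
      intro r hr
      obtain ⟨r₁, hr₁⟩ := hdvd r (hJp hr)
      have h1 : c * r₁ ∈ J := by
        rw [hJ, mul_smul]
        refine descend hπ hπp hdvd (hfl p hp hp0) ?_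
        rw [← mul_smul, ← hr₁, mul_smul]
        exact Submodule.smul_of_tower_mem _ c ((hJ r).1 hr)
      have hpr : ∀ (n : ℕ) (s : R), c * s ∈ p ^ n → s ∈ p ^ n := by
        intro n s hs
        have : IsCoprime (Ideal.span {c}) (p ^ n) :=
          (Ideal.isCoprime_iff_sup_eq.2 (hp.out.2 _ (right_lt_sup.2 (by
            rwa [Ideal.span_singleton_le_iff_mem])))).pow_right
        obtain ⟨a, ha, e, he, hae⟩ := Ideal.isCoprime_iff_exists.1 this
        obtain ⟨d, rfl⟩ := Ideal.mem_span_singleton.1 ha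
        rw [← _root_.one_mul s, ← hae, add_mul, mul_right_comm]
        exact add_mem (Ideal.mul_mem_right _ _ hs) (Ideal.mul_mem_right _ _ he)
      apply hpr
      rw [hr₁, pow_succ' p (n + 1)]
      exact Ideal.mul_mem_mul hπp (hpr _ _ (ih h1))
  refine hgen (le_bot_iff.1 ?_)
  rw [← Ideal.iInf_pow_eq_bot_of_isDomain p hp.ne_top]
  exact le_iInf fun n => (hJn n).trans (Ideal.pow_le_pow_right n.le_succ)

end Groth.Agent.HullDed
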