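import Groth.Agent.HullDed.Basic
import Mathlib.CategoryTheory.Monoidal.Cartesian.Over
import Mathlib.CategoryTheory.Monoidal.Cartesian.Grp

/-!
# The group structure on the affine hull over a ring
-/

universe u

open CategoryTheory CategoryTheory.Limits MonoidalCategory CartesianMonoidalCategory MonObj GrpObj AlgebraicGeometry

namespace Groth.Agent.HullDed

set_option backward.isDefEq.respectTransparency false in
/-- global functions commute with products of qcqs schemes, one flat, the other with flat functions -/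
theorem isPushout_appTop {P X Y S : Scheme.{u}} {p : P ⟶ X} {q : P ⟶ Y} {g : X ⟶ S} {h : Y ⟶ S}
    [IsAffine S] [CompactSpace X] [QuasiSeparatedSpace X] [Flat g] [CompactSpace Y] [QuasiSeparatedSpace Y]
    (hflat : h.appTop.hom.Flat) (H : IsPullback p q g h) :
    IsPushout g.appTop h.appTop p.appTop q.appTop := by
  have h' : (h.appLE ⊤ ⊤ le_top).hom.Flat := by
    simpa [Scheme.Hom.appLE, Scheme.Hom.appTop] using! hflat
  have hall := isIso_pushoutSection_of_isCompact_of_flat_right_of_ringHomFlat H.flip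
    (US := ⊤) (UT := ⊤) (UX := ⊤) (UY := ⊤) le_top le_top (by simp) (isAffineOpen_top S)
    CompactSpace.isCompact_univ (isQuasiSeparated_univ_iff.mpr inferInstance)
    CompactSpace.isCompact_univ (isQuasiSeparated_univ_iff.mpr inferInstance) h'
  have := ((isIso_pushoutSection_iff H.flip (US := ⊤) (UT := ⊤) (UX := ⊤) (UY := ⊤) le_top le_top
    (by simp)).mp hall).flip
  simpa [Scheme.Hom.appLE, Scheme.Hom.appTop] using! this

variable {R : CommRingCat.{u}}

/-- a morphism to an affine object is determined after a map inducing a bijection on functions -/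
theorem ext_of_factor {P Q C : Over (Spec R)} [IsAffine C.left] (q : P ⟶ Q)
    [IsIso q.left.appTop] {g g' : Q ⟶ C} (h : q ≫ g = q ≫ g') : g = g' := by
  ext : 1
  apply ext_of_isAffine
  have := congr($(h).left.appTop)
  simp only [Over.comp_left, Scheme.Hom.comp_appTop] at this
  exact (cancel_mono q.left.appTop).1 this

/-- a morphism to an affine object factors through a map inducing a bijection on functions -/
theorem exists_factor {P Q C : Over (Spec R)} [IsAffine C.left] (q : P ⟶ Q)
    [IsIso q.left.appTop] (f : P ⟶ C) : ∃ g : Q ⟶ C, q ≫ g = f := by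
  let g₀ : Q.left ⟶ C.left :=
    Q.left.toSpecΓ ≫ Spec.map (f.left.appTop ≫ inv q.left.appTop) ≫ C.left.isoSpec.inv
  have hg : q.left ≫ g₀ = f.left := by
    simp only [g₀, Scheme.toSpecΓ_naturality_assoc]
    rw [← Spec.map_comp_assoc, Category.assoc, IsIso.inv_hom_id, Category.comp_id,
      ← Scheme.toSpecΓ_naturality_assoc]
    simp [Scheme.isoSpec]
  have hw : g₀ ≫ C.hom = Q.hom := by
    apply ext_of_isAffine
    rw [← cancel_mono q.left.appTop, ← Scheme.Hom.comp_appTop, ← Scheme.Hom.comp_appTop,
      reassoc_of% hg, Over.w, Over.w]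
  exact ⟨Over.homMk g₀ hw, Over.OverMorphism.ext hg⟩

/-- functions on products only depend on the functions of the factors -/
theorem isIso_appTop_tensor {X X' Y Y' : Over (Spec R)} (a : X ⟶ X') (b : Y ⟶ Y')
    [IsIso a.left.appTop] [IsIso b.left.appTop] [CompactSpace X.left] [QuasiSeparatedSpace X.left]
    [CompactSpace X'.left] [QuasiSeparatedSpace X'.left] [CompactSpace Y.left] [QuasiSeparatedSpace Y.left]
    [CompactSpace Y'.left] [QuasiSeparatedSpace Y'.left] [Flat X.hom] [Flat X'.hom]
    (hY : Y.hom.appTop.hom.Flat) (hY' : Y'.hom.appTop.hom.Flat) : IsIso (a ⊗ₘ b).left.appTop := by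
  have HP := isPushout_appTop hY (IsPullback.of_hasPullback X.hom Y.hom)
  have HP' := isPushout_appTop hY' (IsPullback.of_hasPullback X'.hom Y'.hom)
  let φ := (a ⊗ₘ b).left.appTop
  have hp : (pullback.fst X'.hom Y'.hom).appTop ≫ φ =
      a.left.appTop ≫ (pullback.fst X.hom Y.hom).appTop := by
    have := congr($(tensorHom_fst a b).left.appTop)
    simp only [Over.comp_left, Scheme.Hom.comp_appTop] at this
    exact this
  have hq : (pullback.snd X'.hom Y'.hom).appTop ≫ φ =
      b.left.appTop ≫ (pullback.snd X.hom Y.hom).appTop := by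
    have := congr($(tensorHom_snd a b).left.appTop)
    simp only [Over.comp_left, Scheme.Hom.comp_appTop] at this
    exact this
  have ha : X.hom.appTop ≫ inv a.left.appTop = X'.hom.appTop := by
    rw [IsIso.comp_inv_eq, ← Scheme.Hom.comp_appTop, Over.w]
  have hb : Y.hom.appTop ≫ inv b.left.appTop = Y'.hom.appTop := by
    rw [IsIso.comp_inv_eq, ← Scheme.Hom.comp_appTop, Over.w]
  let ψ := HP.desc (inv a.left.appTop ≫ (pullback.fst X'.hom Y'.hom).appTop)
    (inv b.left.appTop ≫ (pullback.snd X'.hom Y'.hom).appTop)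
    (by rw [reassoc_of% ha, reassoc_of% hb]; exact HP'.w)
  refine ⟨ψ, HP'.hom_ext ?_ ?_, HP.hom_ext ?_ ?_⟩
  · rw [reassoc_of% hp, HP.inl_desc, IsIso.hom_inv_id_assoc]; exact (Category.comp_id _).symm
  · rw [reassoc_of% hq, HP.inr_desc, IsIso.hom_inv_id_assoc]; exact (Category.comp_id _).symm
  · rw [HP.inl_desc_assoc, Category.assoc, hp, IsIso.inv_hom_id_assoc]; exact (Category.comp_id _).symm
  · rw [HP.inr_desc_assoc, Category.assoc, hq, IsIso.inv_hom_id_assoc]; exact (Category.comp_id _).symm

/-- The affine hull `Spec Γ(G)` over the ring. -/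
noncomputable def hull (G : Over (Spec R)) : Over (Spec R) :=
  Over.mk (Spec.map (str G.hom))

/-- The canonical morphism to the affine hull. -/
noncomputable def toHull (G : Over (Spec R)) : G ⟶ hull G :=
  Over.homMk G.left.toSpecΓ (toSpecΓ_str G.hom)

theorem toHull_left (G : Over (Spec R)) : (toHull G).left = G.left.toSpecΓ := rfl

instance (G : Over (Spec R)) : IsAffine (hull G).left :=
  inferInstanceAs (IsAffine (Spec _))

instance (G : Over (Spec R)) [CompactSpace G.left] [QuasiSeparatedSpace G.left] :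
    IsIso (toHull G).left.appTop := by
  show IsIso G.left.toSpecΓ.appTop
  rw [Scheme.toSpecΓ_appTop]
  infer_instance

theorem flat_hull (G : Over (Spec R)) (h : (str G.hom).hom.Flat) : Flat (hull G).hom :=
  (HasRingHomProperty.Spec_iff (P := @Flat)).2 h

theorem exists_grpObj (G : Over (Spec R)) [GrpObj G] [Flat G.hom] [QuasiCompact G.hom]
    [QuasiSeparated G.hom] (hfl : (str G.hom).hom.Flat) :
    ∃ _ : GrpObj (hull G), IsMonHom (toHull G) := by
  let C := hull G
  let a : G ⟶ C := toHull G
  have : CompactSpace G.left := QuasiCompact.compactSpace_of_compactSpace G.hom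
  have : QuasiSeparatedSpace G.left := quasiSeparatedSpace_of_quasiSeparated G.hom
  have : IsIso a.left.appTop := inferInstanceAs (IsIso (toHull G).left.appTop)
  have : Flat C.hom := flat_hull G hfl
  have hG : G.hom.appTop.hom.Flat := by
    rw [show G.hom.appTop = (Scheme.ΓSpecIso R).hom ≫ str G.hom by simp [str]]
    exact RingHom.Flat.comp (RingHom.Flat.of_bijective (ConcreteCategory.bijective_of_isIso _)) hfl
  have hC : C.hom.appTop.hom.Flat := Flat.flat_appLE C.hom (isAffineOpen_top _) (isAffineOpen_top _) le_top |> fun h => by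
    simpa [Scheme.Hom.appLE, Scheme.Hom.appTop] using! h
  have : IsAffineHom C.hom := isAffineHom_of_isAffine C.hom
  have : IsAffine (C ⊗ C).left := inferInstanceAs (IsAffine (pullback C.hom C.hom))
  have : Flat (G ⊗ G).hom := inferInstanceAs (Flat (pullback.fst G.hom G.hom ≫ G.hom))
  have : Flat (C ⊗ C).hom := inferInstanceAs (Flat (pullback.fst C.hom C.hom ≫ C.hom))
  have : CompactSpace (G ⊗ G).left :=
    QuasiCompact.compactSpace_of_compactSpace (pullback.fst G.hom G.hom)
  have : QuasiSeparatedSpace (G ⊗ G).left :=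
    quasiSeparatedSpace_of_quasiSeparated (pullback.fst G.hom G.hom)
  have : CompactSpace (𝟙_ (Over (Spec R))).left := inferInstanceAs (CompactSpace (Spec R))
  have : QuasiSeparatedSpace (𝟙_ (Over (Spec R))).left :=
    inferInstanceAs (QuasiSeparatedSpace (Spec R))
  have : Flat (𝟙_ (Over (Spec R))).hom := inferInstanceAs (Flat (𝟙 (Spec R)))
  have h1 : (𝟙_ (Over (Spec R))).hom.appTop.hom.Flat := by
    show (Scheme.Hom.appTop (𝟙 (Spec R))).hom.Flat
    rw [Scheme.Hom.id_appTop]
    exact RingHom.Flat.id _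
  have h2 : IsIso (a ⊗ₘ a).left.appTop := isIso_appTop_tensor a a hG hC
  have h3 : IsIso ((a ⊗ₘ a) ⊗ₘ a).left.appTop := isIso_appTop_tensor (a ⊗ₘ a) a hG hC
  have : IsIso (Over.Hom.left (𝟙 (𝟙_ (Over (Spec R))))).appTop := by
    rw [Over.id_left, Scheme.Hom.id_appTop]; infer_instance
  have h0l : IsIso (𝟙_ (Over (Spec R)) ◁ a).left.appTop := by
    rw [← id_tensorHom]; exact isIso_appTop_tensor _ _ hG hC
  have h0r : IsIso (a ▷ 𝟙_ (Over (Spec R))).left.appTop := by
    rw [← tensorHom_id]; exact isIso_appTop_tensor _ _ h1 h1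
  obtain ⟨m, hm⟩ := exists_factor (a ⊗ₘ a) (μ[G] ≫ a)
  obtain ⟨i, hi⟩ := exists_factor a (ι[G] ≫ a)
  letI inst : GrpObj C :=
    { one := η[G] ≫ a
      mul := m
      inv := i
      one_mul := ext_of_factor (𝟙_ (Over (Spec R)) ◁ a) (by
        rw [← Category.assoc, ← id_tensorHom, ← tensorHom_id, tensorHom_comp_tensorHom,
          Category.id_comp, Category.comp_id, show ((η[G] ≫ a) ⊗ₘ a) = (η[G] ▷ G) ≫ (a ⊗ₘ a) by
            rw [← tensorHom_id, tensorHom_comp_tensorHom, Category.id_comp],
          Category.assoc, hm, MonObj.one_mul_assoc, id_tensorHom, leftUnitor_naturality])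
      mul_one := ext_of_factor (a ▷ 𝟙_ (Over (Spec R))) (by
        rw [← Category.assoc, ← id_tensorHom, ← tensorHom_id, tensorHom_comp_tensorHom,
          Category.id_comp, Category.comp_id, show (a ⊗ₘ (η[G] ≫ a)) = (G ◁ η[G]) ≫ (a ⊗ₘ a) by
            rw [← id_tensorHom, tensorHom_comp_tensorHom, Category.id_comp],
          Category.assoc, hm, MonObj.mul_one_assoc, tensorHom_id, rightUnitor_naturality])
      mul_assoc := ext_of_factor ((a ⊗ₘ a) ⊗ₘ a) (by
        rw [associator_naturality_assoc, ← tensorHom_id, ← id_tensorHom,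
          tensorHom_comp_tensorHom_assoc, tensorHom_comp_tensorHom_assoc, hm, Category.comp_id,
          show ((μ[G] ≫ a) ⊗ₘ a) = (μ[G] ▷ G) ≫ (a ⊗ₘ a) by
            rw [← tensorHom_id, tensorHom_comp_tensorHom, Category.id_comp],
          show (a ⊗ₘ (μ[G] ≫ a)) = (G ◁ μ[G]) ≫ (a ⊗ₘ a) by
            rw [← id_tensorHom, tensorHom_comp_tensorHom, Category.id_comp],
          Category.assoc, Category.assoc, hm, MonObj.mul_assoc_assoc])
      left_inv := ext_of_factor a (by
        rw [comp_lift_assoc, Category.comp_id, hi, show lift (ι[G] ≫ a) a = lift ι[G] (𝟙 G) ≫ (a ⊗ₘ a) by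
          rw [lift_map, Category.id_comp], Category.assoc, hm, GrpObj.left_inv_assoc, comp_toUnit_assoc])
      right_inv := ext_of_factor a (by
        rw [comp_lift_assoc, Category.comp_id, hi, show lift a (ι[G] ≫ a) = lift (𝟙 G) ι[G] ≫ (a ⊗ₘ a) by
          rw [lift_map, Category.id_comp], Category.assoc, hm, GrpObj.right_inv_assoc, comp_toUnit_assoc]) }
  exact ⟨inst, ⟨rfl, hm.symm⟩⟩

end Groth.Agent.HullDed
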