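import Groth.Agent.HullDed.Dominant
import Groth.Agent.HullDed.FieldFlat
import Groth.Agent.HullDed.FlatCrit
import Groth.Agent.GrpField.FibreHom
import Mathlib.AlgebraicGeometry.Pullbacks
import Mathlib.RingTheory.Localization.FractionRing

/-!
# The affine hull of a flat group over a Dedekind domain is faithfully flat
-/

universe u

open CategoryTheory CategoryTheory.Limits MonoidalCategory CartesianMonoidalCategory MonObj GrpObj AlgebraicGeometry
open TensorProduct

namespace Groth.Agent.HullDed

variable {R : CommRingCat.{u}} [IsDomain R] [IsDedekindDomain R]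
  (G : Over (Spec R)) [Flat G.hom] [QuasiCompact G.hom] [QuasiSeparated G.hom]

theorem fibHom_toHull (s : Spec R) : QuasiCompact (GrpField.fibHom (toHull G) s).left ∧
    (GrpField.fibHom (toHull G) s).left.ker = ⊥ ∧ IsAffine (GrpField.fib (hull G) s).left := by
  let b := (Spec R).fromSpecResidueField s
  have haff : IsAffine (GrpField.fib (hull G) s).left :=
    inferInstanceAs (IsAffine (pullback (Spec.map (str G.hom)) b))
  have h2 : (GrpField.fibHom (toHull G) s).left ≫ pullback.snd (hull G).hom b = pullback.snd G.hom b :=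
    Over.w (GrpField.fibHom (toHull G) s)
  have hqc : QuasiCompact (GrpField.fibHom (toHull G) s).left := by
    have : IsAffineHom (hull G).hom := isAffineHom_of_isAffine (hull G).hom
    have : QuasiCompact ((GrpField.fibHom (toHull G) s).left ≫ pullback.snd (hull G).hom b) := by
      rw [h2]; infer_instance
    exact QuasiCompact.of_comp (GrpField.fibHom (toHull G) s).left (pullback.snd (hull G).hom b)
  refine ⟨hqc, ?_, haff⟩
  refine Eq.trans (congrArg Scheme.Hom.ker ?_) (ker_pullback_map_eq_bot G.hom s)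
  refine pullback.hom_ext ?_ ?_
  · exact (GrpField.fibHom_fst _ _).trans (pullback.lift_fst _ _ _).symm
  · exact h2.trans ((Category.comp_id _).symm.trans (pullback.lift_snd _ _ _).symm)

variable [GrpObj G]

theorem fibHom_flat_surjective (s : Spec R) :
    Flat (GrpField.fibHom (toHull G) s).left ∧ Surjective (GrpField.fibHom (toHull G) s).left := by
  obtain ⟨hC, hmon⟩ := exists_grpObj G (flat_str G.hom)
  obtain ⟨hqc, hker, haff⟩ := fibHom_toHull G s
  letI : GrpObj (GrpField.fib G s) := GrpField.fibGrp G s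
  letI : GrpObj (GrpField.fib (hull G) s) := GrpField.fibGrp (hull G) s
  exact flat_surjective_of_schDom (k := (Spec R).residueField s) (GrpField.fibHom (toHull G) s) hker

theorem surjective_toSpecΓ : Surjective G.left.toSpecΓ :=
  (GrpField.surjective_iff_fibHom (toHull G)).2 fun s => (fibHom_flat_surjective G s).2

/-- flatness after base change to a field-valued point -/
theorem flat_tensor (k : Type u) [Field k] [Algebra R k] (M : CommRingCat.{u}) (j : Spec M ⟶ G.left)
    [Flat j] (φ : Γ(G.left, ⊤) ⟶ M) (hφ : Spec.map φ = j ≫ G.left.toSpecΓ) :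
    letI := (str G.hom).hom.toAlgebra
    letI := φ.hom.toAlgebra
    Module.Flat (Γ(G.left, ⊤) ⊗[R] k) ((Γ(G.left, ⊤) ⊗[R] k) ⊗[Γ(G.left, ⊤)] M) := by
  letI := (str G.hom).hom.toAlgebra
  letI := φ.hom.toAlgebra
  let A := Γ(G.left, ⊤)
  let K : CommRingCat := CommRingCat.of k
  let b : Spec K ⟶ Spec R := Spec.map (CommRingCat.ofHom (algebraMap R k))
  let s : Spec R := b (IsLocalRing.closedPoint k)
  let T : CommRingCat := CommRingCat.of (A ⊗[R] k)
  let inl : A ⟶ T := CommRingCat.ofHom (algebraMap A (A ⊗[R] k))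
  let inr : K ⟶ T := CommRingCat.ofHom Algebra.TensorProduct.includeRight.toRingHom
  let d : Spec K ⟶ Spec ((Spec R).residueField s) :=
    Spec.map ((Spec R).descResidueField (Scheme.stalkClosedPointTo b))
  have hd : d ≫ (Spec R).fromSpecResidueField s = b :=
    Scheme.descResidueField_stalkClosedPointTo_fromSpecResidueField k (Spec R) b
  have hw : Spec.map inl ≫ (hull G).hom = (Spec.map inr ≫ d) ≫ (Spec R).fromSpecResidueField s := by
    rw [Category.assoc, hd]
    show Spec.map inl ≫ Spec.map (str G.hom) = Spec.map inr ≫ Spec.map (CommRingCat.ofHom (algebraMap R k))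
    rw [← Spec.map_comp, ← Spec.map_comp]
    exact congrArg Spec.map (CommRingCat.isPushout_tensorProduct R A k).w
  let q := pullback.fst (hull G).hom ((Spec R).fromSpecResidueField s)
  let w : Spec T ⟶ pullback (hull G).hom ((Spec R).fromSpecResidueField s) := pullback.lift _ _ hw
  have hwq : w ≫ q = Spec.map inl := pullback.lift_fst _ _ _
  have h1 : Flat (pullback.snd (toHull G).left q) := by
    have e := GrpField.isPullback_fibHom (toHull G) s
    have : Flat (GrpField.fibHom (toHull G) s).left := (fibHom_flat_surjective G s).1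
    rw [← e.isoPullback_inv_snd]
    infer_instance
  have h2 : Flat (pullback.snd (toHull G).left (Spec.map inl)) := by
    rw [← hwq, ← pullbackLeftPullbackSndIso_inv_snd_snd]
    infer_instance
  have h3 : Flat (pullback.snd (j ≫ (toHull G).left) (Spec.map inl)) := by
    rw [← pullbackRightPullbackFstIso_inv_snd_snd]
    infer_instance
  have h4 : Flat (pullback.snd (Spec.map (CommRingCat.ofHom (algebraMap A M))) (Spec.map inl)) := by
    have e : Spec.map (CommRingCat.ofHom (algebraMap A M)) = j ≫ (toHull G).left := hφ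
    rwa [e]
  have h5 : Flat (Spec.map (CommRingCat.ofHom
      (R := (A ⊗[R] k)) (S := M ⊗[A] (A ⊗[R] k)) (RingHomClass.toRingHom
      (Algebra.TensorProduct.includeRight : (A ⊗[R] k) →ₐ[A] M ⊗[A] (A ⊗[R] k))))) := by
    rw [← pullbackSpecIso_inv_snd]
    exact MorphismProperty.comp_mem _ _ _ inferInstance h4
  have h6 := (HasRingHomProperty.Spec_iff (P := @Flat)).1 h5
  have h7 := h6.comp (RingHom.Flat.of_bijective
    (f := (Algebra.TensorProduct.comm A M (A ⊗[R] k)).toRingEquiv.toRingHom)
    (Algebra.TensorProduct.comm A M (A ⊗[R] k)).bijective)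
  rw [← RingHom.flat_algebraMap_iff]
  have e : algebraMap (A ⊗[R] k) ((A ⊗[R] k) ⊗[A] M) =
      (Algebra.TensorProduct.comm A M (A ⊗[R] k)).toRingEquiv.toRingHom.comp
        (Algebra.TensorProduct.includeRight : (A ⊗[R] k) →ₐ[A] M ⊗[A] (A ⊗[R] k)).toRingHom := rfl
  rw [e]
  exact h7

omit [GrpObj G] in
theorem isTorsionFree_of_flat {M : Type u} [AddCommGroup M] [Module R M] [Module.Flat R M] :
    Module.IsTorsionFree R M :=
  Submodule.isTorsionFree_iff_torsion_eq_bot.2 (IsDedekindDomain.flat_iff_torsion_eq_bot.1 ‹_›)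

theorem flat_chart (M : CommRingCat.{u}) (j : Spec M ⟶ G.left) (hj : Flat j) (φ : Γ(G.left, ⊤) ⟶ M)
    (hφ : Spec.map φ = j ≫ G.left.toSpecΓ) : φ.hom.Flat := by
  haveI := hj
  letI := (str G.hom).hom.toAlgebra
  letI := φ.hom.toAlgebra
  letI : Algebra R M := ((str G.hom) ≫ φ).hom.toAlgebra
  haveI : IsScalarTower R Γ(G.left, ⊤) M := IsScalarTower.of_algebraMap_eq fun _ => rfl
  let A := Γ(G.left, ⊤)
  haveI : Module.Flat R A := flat_str G.hom
  haveI : Module.Flat R M := by
    have h : Flat (Spec.map (str G.hom ≫ φ)) := by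
      rw [Spec.map_comp, hφ, Category.assoc, toSpecΓ_str]; infer_instance
    exact (HasRingHomProperty.Spec_iff (P := @Flat)).1 h
  haveI : Module.IsTorsionFree R A := isTorsionFree_of_flat
  haveI : Module.IsTorsionFree R M := isTorsionFree_of_flat
  change Module.Flat A M
  let K := FractionRing R
  let T := A ⊗[R] K
  haveI : Module.Flat T (T ⊗[A] M) := flat_tensor G K M j φ hφ
  haveI : Module.Flat R K := IsLocalization.flat K (nonZeroDivisors R)
  haveI : Module.Flat A T := inferInstanceAs (Module.Flat A (A ⊗[R] K))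
  haveI : Module.Flat A (T ⊗[A] M) := Module.Flat.trans A T _
  let e : T ⊗[A] M ≃ₗ[A] M ⊗[R] K :=
    (TensorProduct.comm A T M).trans (TensorProduct.AlgebraTensorModule.cancelBaseChange R A A M K)
  have he : ∀ m : M, e ((1 : T) ⊗ₜ[A] m) = m ⊗ₜ[R] 1 := fun m => by
    show TensorProduct.AlgebraTensorModule.cancelBaseChange R A A M K (m ⊗ₜ[A] ((1 : A) ⊗ₜ[R] (1 : K))) = _
    rw [TensorProduct.AlgebraTensorModule.cancelBaseChange_tmul, one_smul]
  let inc : M →ₗ[A] T ⊗[A] M := TensorProduct.mk A T M 1
  have hinj : Function.Injective inc := by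
    intro m m' h
    have h1 := congrArg e h
    change e ((1 : T) ⊗ₜ[A] m) = e ((1 : T) ⊗ₜ[A] m') at h1
    rw [he, he] at h1
    have hK : Function.Injective ((Algebra.linearMap R K).lTensor M) :=
      Module.Flat.lTensor_preserves_injective_linearMap _ (IsFractionRing.injective R K)
    apply (TensorProduct.rid R M).symm.injective
    apply hK
    simpa using h1
  have hden : ∀ v : T ⊗[A] M, ∃ r : R, r ≠ 0 ∧ ∃ m, r • v = inc m := by
    intro v
    suffices ∀ w : M ⊗[R] K, ∃ r : R, r ≠ 0 ∧ ∃ m : M, r • w = m ⊗ₜ[R] 1 by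
      obtain ⟨r, hr, m, hm⟩ := this (e v)
      refine ⟨r, hr, m, e.injective ?_⟩
      exact (LinearMap.map_smul_of_tower e.toLinearMap r v).trans (hm.trans (he m).symm)
    intro w
    induction w using TensorProduct.induction_on with
    | zero => exact ⟨1, one_ne_zero, 0, by simp⟩
    | tmul m y =>
      obtain ⟨a, b, hb, rfl⟩ := IsFractionRing.div_surjective (A := R) y
      refine ⟨b, nonZeroDivisors.ne_zero hb, a • m, ?_⟩
      rw [← TensorProduct.tmul_smul, TensorProduct.smul_tmul, Algebra.smul_def, Algebra.smul_def,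
        mul_div_cancel₀ _ (IsFractionRing.to_map_ne_zero_of_mem_nonZeroDivisors hb), _root_.mul_one]
    | add w₁ w₂ h₁ h₂ =>
      obtain ⟨r₁, hr₁, m₁, h₁⟩ := h₁
      obtain ⟨r₂, hr₂, m₂, h₂⟩ := h₂
      refine ⟨r₁ * r₂, mul_ne_zero hr₁ hr₂, r₂ • m₁ + r₁ • m₂, ?_⟩
      rw [smul_add, TensorProduct.add_tmul, ← TensorProduct.smul_tmul' r₂ m₁, ← TensorProduct.smul_tmul' r₁ m₂,
        ← h₁, ← h₂, mul_comm r₁ r₂, mul_smul, mul_smul, smul_comm r₁ r₂ w₂]
  refine flat_of_fibres (R := R) (N := T ⊗[A] M) inc hinj hden fun p hp hp0 => ?_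
  letI := Ideal.Quotient.field p
  let B := A ⧸ p.map (algebraMap R A)
  let T' := A ⊗[R] (R ⧸ p)
  haveI : Module.Flat T' (T' ⊗[A] M) := flat_tensor G (R ⧸ p) M j φ hφ
  let l : R ⧸ p →ₐ[R] B := Ideal.quotientMapₐ (p.map (algebraMap R A)) (Algebra.ofId R A) Ideal.le_comap_map
  let ψ : T' →ₐ[A] B := Algebra.TensorProduct.lift (Algebra.ofId A B) l fun _ _ => Commute.all _ _
  letI := ψ.toRingHom.toAlgebra
  haveI : IsScalarTower A T' B := IsScalarTower.of_algebraMap_eq fun x => (ψ.commutes x).symm
  exact Module.Flat.of_linearEquiv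
    (TensorProduct.AlgebraTensorModule.cancelBaseChange A T' B B M).symm

theorem flat_toSpecΓ : Flat G.left.toSpecΓ := by
  refine IsZariskiLocalAtSource.of_openCover (P := @Flat) G.left.affineCover fun i => ?_
  have : IsOpenImmersion (G.left.affineCover.f i) := G.left.affineCover.map_prop i
  obtain ⟨φ, hφ⟩ := Spec.map_surjective (G.left.affineCover.f i ≫ G.left.toSpecΓ)
  have : Flat (G.left.affineCover.f i) := inferInstance
  have h := (HasRingHomProperty.Spec_iff (P := @Flat)).2 (flat_chart G _ (G.left.affineCover.f i) this φ hφ)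
  rw [hφ] at h
  exact h

theorem quasiCompact_toSpecΓ : QuasiCompact G.left.toSpecΓ := by
  have : IsAffineHom (hull G).hom := isAffineHom_of_isAffine (hull G).hom
  have h : QuasiCompact (G.left.toSpecΓ ≫ (hull G).hom) := by
    rw [show G.left.toSpecΓ ≫ (hull G).hom = G.hom from toSpecΓ_str G.hom]; infer_instance
  exact QuasiCompact.of_comp G.left.toSpecΓ (hull G).hom

end Groth.Agent.HullDed
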